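import Groth.Agent.Lib.UnionPush13.Basic
import Groth.Agent.Lib.PicDesc21.Frame
import Groth.Agent.Lib.VeryAmple11.BC
import Groth.Agent.Lib.AbDual21.Phi
import Groth.Agent.Lib.GeomIrr18.Scheme
import Groth.Agent.Lib.LimH13.Reduced

/-!
# Functions on the union of two closed subschemes
-/

set_option autoImplicit false
set_option linter.style.haveILetI false
set_option backward.isDefEq.respectTransparency false

universe u

open CategoryTheory CategoryTheory.Limits AlgebraicGeometry TopologicalSpace Opposite Scheme.IdealSheafData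

noncomputable section

namespace Groth.Agent.PicUnion22

open Groth.Agent.M1

variable {X : Scheme.{u}}

/-- Restriction of functions to a closed subscheme. -/
abbrev res (K : X.IdealSheafData) (O : X.Opens) : Γ(X, O) ⟶ Γ(K.subscheme, K.subschemeι ⁻¹ᵁ O) :=
  K.subschemeι.app O

/-- Restriction of functions between closed subschemes. -/
abbrev res' {K L : X.IdealSheafData} (h : K ≤ L) (O : X.Opens) :
    Γ(K.subscheme, K.subschemeι ⁻¹ᵁ O) ⟶ Γ(L.subscheme, L.subschemeι ⁻¹ᵁ O) :=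
  (inclusion h).appLE _ _ (UnionPush13.le_inclusion h)

theorem res'_res {K L : X.IdealSheafData} (h : K ≤ L) (O : X.Opens) (z : Γ(X, O)) :
    res' h O (res K O z) = res L O z := by
  rw [res, res, Scheme.Hom.app_eq_appLE, Scheme.Hom.app_eq_appLE]
  exact UnionPush13.inclusion_appLE h z

theorem res_ores (K : X.IdealSheafData) {O O' : X.Opens} (h : O' ≤ O) (z : Γ(X, O)) :
    res K O' (ores h z) = ores (K.subschemeι.preimage_mono h) (res K O z) :=
  ConcreteCategory.congr_hom (K.subschemeι.naturality (homOfLE h).op) z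

theorem res'_ores {K L : X.IdealSheafData} (hKL : K ≤ L) {O O' : X.Opens} (h : O' ≤ O)
    (z : Γ(K.subscheme, K.subschemeι ⁻¹ᵁ O)) :
    res' hKL O' (ores (K.subschemeι.preimage_mono h) z) = ores (L.subschemeι.preimage_mono h) (res' hKL O z) := by
  rw [res', res', PicDesc21.appLE_res]
  exact ConcreteCategory.congr_hom
    (Scheme.Hom.map_appLE (inclusion hKL) (UnionPush13.le_inclusion hKL) (homOfLE (K.subschemeι.preimage_mono h)).op) z

variable (I J : X.IdealSheafData) (hIJ : I ⊓ J = ⊥)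

include hIJ in
theorem inj_affine {U : X.Opens} (hU : IsAffineOpen U) (z : Γ(X, U)) (h₁ : res I U z = 0) (h₂ : res J U z = 0) :
    z = 0 := by
  have h : z ∈ (I ⊓ J).ideal ⟨U, hU⟩ := by
    rw [Scheme.IdealSheafData.ideal_inf, Pi.inf_apply]
    exact ⟨(UnionPush13.appLE_eq_zero_iff I hU z).1 (by rwa [← Scheme.Hom.app_eq_appLE]),
      (UnionPush13.appLE_eq_zero_iff J hU z).1 (by rwa [← Scheme.Hom.app_eq_appLE])⟩
  rw [hIJ, Scheme.IdealSheafData.ideal_bot] at h
  simpa using h

include hIJ in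
/-- Functions are determined by their restrictions. -/
theorem inj {O : X.Opens} (z z' : Γ(X, O)) (h₁ : res I O z = res I O z') (h₂ : res J O z = res J O z') : z = z' := by
  refine TopCat.Sheaf.eq_of_locally_eq' X.sheaf (fun U : {U : X.affineOpens // U.1 ≤ O} => U.1.1) O
    (fun U => homOfLE U.2) (fun x hx => ?_) z z' fun U => ?_
  · obtain ⟨U, hU, hxU, hUO⟩ := exists_isAffineOpen_mem_and_subset hx
    exact Opens.mem_iSup.2 ⟨⟨⟨U, hU⟩, hUO⟩, hxU⟩
  · show ores U.2 z = ores U.2 z'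
    refine sub_eq_zero.1 (inj_affine I J hIJ U.1.2 _ ?_ ?_)
    · rw [map_sub, res_ores, res_ores, h₁, sub_self]
    · rw [map_sub, res_ores, res_ores, h₂, sub_self]

theorem glue_affine {U : X.Opens} (hU : IsAffineOpen U) (a : Γ(I.subscheme, I.subschemeι ⁻¹ᵁ U))
    (b : Γ(J.subscheme, J.subschemeι ⁻¹ᵁ U))
    (h : res' (le_sup_left : I ≤ I ⊔ J) U a = res' (le_sup_right : J ≤ I ⊔ J) U b) :
    ∃ c, res I U c = a ∧ res J U c = b := by
  obtain ⟨z, rfl⟩ := I.subschemeι_app_surjective ⟨U, hU⟩ a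
  obtain ⟨z', rfl⟩ := J.subschemeι_app_surjective ⟨U, hU⟩ b
  change res' _ U (res I U z) = res' _ U (res J U z') at h
  rw [res'_res, res'_res, ← sub_eq_zero, ← map_sub] at h
  have h' : z - z' ∈ (I ⊔ J).ideal ⟨U, hU⟩ :=
    (UnionPush13.appLE_eq_zero_iff (I ⊔ J) hU _).1 (by rwa [← Scheme.Hom.app_eq_appLE])
  rw [Scheme.IdealSheafData.ideal_sup, Pi.sup_apply] at h'
  obtain ⟨i, hi, j, hj, hij⟩ := Submodule.mem_sup.1 h'
  have hi0 : res I U i = 0 := by
    rw [res, Scheme.Hom.app_eq_appLE]; exact (UnionPush13.appLE_eq_zero_iff I hU i).2 hi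
  have hj0 : res J U j = 0 := by
    rw [res, Scheme.Hom.app_eq_appLE]; exact (UnionPush13.appLE_eq_zero_iff J hU j).2 hj
  refine ⟨z - i, ?_, ?_⟩
  · change res I U (z - i) = res I U z
    rw [map_sub, hi0, sub_zero]
  · change res J U (z - i) = res J U z'
    rw [show z - i = z' + j by rw [← sub_eq_zero]; linear_combination -hij, map_add, hj0, add_zero]

include hIJ in
/-- Compatible functions on the pieces come from a function on the union. -/
theorem glue (O : X.Opens) (a : Γ(I.subscheme, I.subschemeι ⁻¹ᵁ O)) (b : Γ(J.subscheme, J.subschemeι ⁻¹ᵁ O))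
    (h : res' (le_sup_left : I ≤ I ⊔ J) O a = res' (le_sup_right : J ≤ I ⊔ J) O b) :
    ∃ c, res I O c = a ∧ res J O c = b := by
  let κ := {U : X.affineOpens // U.1 ≤ O}
  have hloc : ∀ U : κ, ∃ c, res I U.1.1 c = ores (I.subschemeι.preimage_mono U.2) a ∧
      res J U.1.1 c = ores (J.subschemeι.preimage_mono U.2) b := fun U =>
    glue_affine I J U.1.2 _ _ (by rw [res'_ores _ U.2, res'_ores _ U.2, h])
  choose c hcI hcJ using hloc
  have hcov : O ≤ ⨆ U : κ, U.1.1 := fun x hx => by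
    obtain ⟨U, hU, hxU, hUO⟩ := exists_isAffineOpen_mem_and_subset hx
    exact Opens.mem_iSup.2 ⟨⟨⟨U, hU⟩, hUO⟩, hxU⟩
  obtain ⟨d, hd, -⟩ := X.sheaf.existsUnique_gluing' (fun U : κ => U.1.1) O (fun U => homOfLE U.2) hcov c
    fun U V => by
      show ores (inf_le_left : U.1.1 ⊓ V.1.1 ≤ U.1.1) (c U) = ores (inf_le_right : U.1.1 ⊓ V.1.1 ≤ V.1.1) (c V)
      refine inj I J hIJ _ _ ?_ ?_
      · rw [res_ores, res_ores, hcI, hcI, ores_ores, ores_ores]
      · rw [res_ores, res_ores, hcJ, hcJ, ores_ores, ores_ores]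
  have hd' : ∀ U : κ, ores U.2 (d : Γ(X, O)) = c U := hd
  refine ⟨d, ?_, ?_⟩
  · refine TopCat.Sheaf.eq_of_locally_eq' I.subscheme.sheaf (fun U : κ => I.subschemeι ⁻¹ᵁ U.1.1) _
      (fun U => homOfLE (I.subschemeι.preimage_mono U.2)) (fun y hy => ?_) _ _ fun U => ?_
    · obtain ⟨U, hU⟩ := Opens.mem_iSup.1 (hcov hy)
      exact Opens.mem_iSup.2 ⟨U, hU⟩
    · show ores (I.subschemeι.preimage_mono U.2) (res I O d) = ores (I.subschemeι.preimage_mono U.2) a
      rw [← res_ores _ U.2, hd', hcI]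
  · refine TopCat.Sheaf.eq_of_locally_eq' J.subscheme.sheaf (fun U : κ => J.subschemeι ⁻¹ᵁ U.1.1) _
      (fun U => homOfLE (J.subschemeι.preimage_mono U.2)) (fun y hy => ?_) _ _ fun U => ?_
    · obtain ⟨U, hU⟩ := Opens.mem_iSup.1 (hcov hy)
      exact Opens.mem_iSup.2 ⟨U, hU⟩
    · show ores (J.subschemeι.preimage_mono U.2) (res J O d) = ores (J.subschemeι.preimage_mono U.2) b
      rw [← res_ores _ U.2, hd', hcJ]

include hIJ in
/-- Compatible units on the pieces come from a unit on the union. -/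
theorem glue_unit (O : X.Opens) (a : Γ(I.subscheme, I.subschemeι ⁻¹ᵁ O)ˣ)
    (b : Γ(J.subscheme, J.subschemeι ⁻¹ᵁ O)ˣ)
    (h : res' (le_sup_left : I ≤ I ⊔ J) O a.1 = res' (le_sup_right : J ≤ I ⊔ J) O b.1) :
    ∃ c : Γ(X, O)ˣ, res I O c.1 = a.1 ∧ res J O c.1 = b.1 := by
  obtain ⟨c, hc₁, hc₂⟩ := glue I J hIJ O a.1 b.1 h
  have h' : res' (le_sup_left : I ≤ I ⊔ J) O (a⁻¹ : Γ(I.subscheme, I.subschemeι ⁻¹ᵁ O)ˣ).1 =
      res' (le_sup_right : J ≤ I ⊔ J) O (b⁻¹ : Γ(J.subscheme, J.subschemeι ⁻¹ᵁ O)ˣ).1 := by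
    have := congrArg Units.inv ((Units.ext h : Units.map (res' (le_sup_left : I ≤ I ⊔ J) O).hom.toMonoidHom a =
      Units.map (res' (le_sup_right : J ≤ I ⊔ J) O).hom.toMonoidHom b))
    exact this
  obtain ⟨d, hd₁, hd₂⟩ := glue I J hIJ O _ _ h'
  have hcd : c * d = 1 := inj I J hIJ _ _ (by rw [map_mul, hc₁, hd₁, Units.mul_inv, map_one])
    (by rw [map_mul, hc₂, hd₂, Units.mul_inv, map_one])
  exact ⟨⟨c, d, hcd, (mul_comm _ _).trans hcd⟩, hc₁, hc₂⟩

/-- Connected reduced geometric fibres give geometrically connected and reduced morphisms. -/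
theorem geometrically_of_algClosed {W B : Scheme.{u}} (p : W ⟶ B)
    (hfib : ∀ (K : Type u) [Field K] [IsAlgClosed K] (g : Spec (CommRingCat.of K) ⟶ B),
      IsReduced (pullback p g) ∧ ConnectedSpace ↥(pullback p g)) :
    GeometricallyConnected p ∧ GeometricallyReduced p := by
  have key : ∀ (K : Type u) [Field K] (y : Spec (CommRingCat.of K) ⟶ B),
      IsReduced (pullback p y) ∧ ConnectedSpace ↥(pullback p y) := fun K _ y => by
    let g := Spec.map (CommRingCat.ofHom (algebraMap K (AlgebraicClosure K)))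
    haveI : Surjective g := ⟨fun z => ⟨IsLocalRing.closedPoint (AlgebraicClosure K),
      Subsingleton.elim (α := PrimeSpectrum K) _ _⟩⟩
    haveI : Flat g := (HasRingHomProperty.Spec_iff (P := @Flat)).2
      (RingHom.flat_algebraMap_iff.2 inferInstance)
    obtain ⟨h₁, h₂⟩ := hfib (AlgebraicClosure K) (g ≫ y)
    haveI := h₁
    haveI := h₂
    let q : pullback p (g ≫ y) ⟶ pullback p y :=
      (pullbackLeftPullbackSndIso p y g).inv ≫ pullback.fst (pullback.snd p y) g
    haveI : Flat q := MorphismProperty.comp_mem @Flat _ _ inferInstance inferInstance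
    haveI : Surjective q := MorphismProperty.comp_mem @Surjective _ _ inferInstance inferInstance
    exact ⟨LimH13.isReduced_of_flat_of_surjective q, GeomIrr.connectedSpace_of_surjective q⟩
  constructor
  · exact ⟨geometrically_iff_of_isClosedUnderIsomorphisms.2 fun K _ y => (key K y).2⟩
  · exact ⟨geometrically_iff_of_isClosedUnderIsomorphisms.2 fun K _ y => (key K y).1⟩

end Groth.Agent.PicUnion22

end
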