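import Groth.Agent.Lib.PicUnion22.Functions
import Groth.Agent.Lib.PicCoc15.Basic
import Groth.Agent.Lib.ParaFDesc27.PicDescent

/-!
# Invertible modules on the union of two closed subschemes
-/

set_option autoImplicit false
set_option linter.style.haveILetI false
set_option backward.isDefEq.respectTransparency false
set_option maxHeartbeats 1000000

universe u

open CategoryTheory CategoryTheory.Limits AlgebraicGeometry TopologicalSpace Opposite Scheme.IdealSheafData

noncomputable section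

namespace Groth.Agent.PicUnion22

open Groth.Agent.M1

variable {X : Scheme.{u}}

theorem isGen_one_res {Y : Scheme.{u}} (U : Y.Opens) :
    Twist.IsGen (Coh.structureModule Y) U (mres _ le_top (M1.one ⊤)) :=
  ParaFDesc27.isGen_one.mres le_top

theorem ratio_pull {Y : Scheme.{u}} (f : Y ⟶ X) {L : X.Modules} {U V : X.Opens} {s : Γ(L, U)} {t : Γ(L, V)}
    {η : Γ(X, U ⊓ V)} (h : mres L (inf_le_left : U ⊓ V ≤ U) s = η • mres L inf_le_right t) :
    mres ((Scheme.Modules.pullback f).obj L) (f.preimage_mono (inf_le_left : U ⊓ V ≤ U)) (M2.pullSec f L s) =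
      f.app (U ⊓ V) η • mres _ (f.preimage_mono (inf_le_right : U ⊓ V ≤ V)) (M2.pullSec f L t) := by
  have e := congrArg (M2.pullSec f L) h
  rw [PicDesc21.pullSec_mres, M2.pullSec_smul, PicDesc21.pullSec_mres] at e
  exact e

/-- Isomorphisms of invertible modules on a closed subscheme in terms of ratios over opens of the ambient scheme. -/
theorem iso_iff (K : X.IdealSheafData) {ι : Type u} (U : ι → X.Opens) (hU : (⨆ p, K.subschemeι ⁻¹ᵁ U p) = ⊤)
    (L L' : K.subscheme.Modules) (s : ∀ i, Γ(L, K.subschemeι ⁻¹ᵁ U i)) (s' : ∀ i, Γ(L', K.subschemeι ⁻¹ᵁ U i))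
    (hs : ∀ i, Twist.IsGen L (K.subschemeι ⁻¹ᵁ U i) (s i)) (hs' : ∀ i, Twist.IsGen L' (K.subschemeι ⁻¹ᵁ U i) (s' i))
    (η η' : ∀ i j, Γ(K.subscheme, K.subschemeι ⁻¹ᵁ (U i ⊓ U j)))
    (hη : ∀ i j, mres L (K.subschemeι.preimage_mono (inf_le_left : U i ⊓ U j ≤ U i)) (s i) =
      η i j • mres L (K.subschemeι.preimage_mono (inf_le_right : U i ⊓ U j ≤ U j)) (s j))
    (hη' : ∀ i j, mres L' (K.subschemeι.preimage_mono (inf_le_left : U i ⊓ U j ≤ U i)) (s' i) =
      η' i j • mres L' (K.subschemeι.preimage_mono (inf_le_right : U i ⊓ U j ≤ U j)) (s' j)) :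
    Nonempty (L ≅ L') ↔ ∃ u : ∀ i, (Γ(K.subscheme, K.subschemeι ⁻¹ᵁ U i))ˣ, ∀ i j,
      η' i j * ores (K.subschemeι.preimage_mono (inf_le_left : U i ⊓ U j ≤ U i)) (u i).1 =
        ores (K.subschemeι.preimage_mono (inf_le_right : U i ⊓ U j ≤ U j)) (u j).1 * η i j :=
  PicCoc15.nonempty_iso_iff (fun i => K.subschemeι ⁻¹ᵁ U i) hU L L' s s' hs hs' η η' hη hη'

variable (I J : X.IdealSheafData) (hIJ : I ⊓ J = ⊥)

/-- An open of a closed subscheme around a point extends to an open around it, empty on the subscheme away from it. -/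
theorem exists_open_gen (K : X.IdealSheafData) {M : K.subscheme.Modules} (hM : PicF.IsInvertible M) (p : X) :
    ∃ (U : X.Opens) (g : Γ(M, K.subschemeι ⁻¹ᵁ U)), p ∈ U ∧ Twist.IsGen M (K.subschemeι ⁻¹ᵁ U) g := by
  by_cases hp : p ∈ Set.range K.subschemeι
  · obtain ⟨y, rfl⟩ := hp
    obtain ⟨D, g, hyD, hg⟩ := ProjUP.exists_isGen_of_invertible hM y
    obtain ⟨O, hO, hOD⟩ := K.subschemeι.isEmbedding.isInducing.isOpen_iff.1 D.2
    obtain rfl : D = K.subschemeι ⁻¹ᵁ ⟨O, hO⟩ := Opens.ext hOD.symm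
    exact ⟨⟨O, hO⟩, g, hyD, hg⟩
  · let U : X.Opens := ⟨(Set.range K.subschemeι)ᶜ, K.subschemeι.isClosedEmbedding.isClosed_range.isOpen_compl⟩
    exact ⟨U, 0, hp, Twist.isGen_of_stalk fun y hy => absurd ⟨y, rfl⟩ hy⟩

include hIJ in
/-- A class trivial on both pieces is trivial, when units of the intersection are constants. -/
theorem trivial_of_trivial {B : Scheme.{u}} (π : X ⟶ B) {L : X.Modules} (hL : PicF.IsInvertible L)
    (hY : Nonempty ((Scheme.Modules.pullback I.subschemeι).obj L ≅ Coh.structureModule _))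
    (hZ : Nonempty ((Scheme.Modules.pullback J.subschemeι).obj L ≅ Coh.structureModule _))
    (hW : ∀ t : Γ((I ⊔ J).subscheme, ⊤)ˣ, ∃ c : Γ(B, ⊤)ˣ, ((I ⊔ J).subschemeι ≫ π).appTop c.1 = t.1) :
    Nonempty (L ≅ Coh.structureModule X) := by
  choose U s hpU hs using fun p : X => ProjUP.exists_isGen_of_invertible hL p
  have hU : iSup U = ⊤ := top_le_iff.1 fun p _ => Opens.mem_iSup.2 ⟨p, hpU p⟩
  choose η hη using fun p q : X => ((hs q) (U p ⊓ U q) inf_le_right).2 (mres L inf_le_left (s p))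
  have hη' : ∀ p q, mres L (inf_le_left : U p ⊓ U q ≤ U p) (s p) = η p q • mres L inf_le_right (s q) :=
    fun p q => (hη p q).symm
  have hcov : ∀ K : X.IdealSheafData, (⨆ p, K.subschemeι ⁻¹ᵁ U p) = ⊤ := fun K => by
    rw [← Scheme.Hom.preimage_iSup, hU, Scheme.Hom.preimage_top]
  have h1 : ∀ {Y : Scheme.{u}} {V V' V'' : Y.Opens} (l : V'' ≤ V) (r : V'' ≤ V'),
      mres (Coh.structureModule Y) l (mres _ le_top (M1.one ⊤)) =
        (1 : Γ(Y, V'')) • mres _ r (mres _ le_top (M1.one ⊤)) := fun {Y V V' V''} l r => by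
    rw [one_smul, mres_mres, mres_mres]
  obtain ⟨u, hu⟩ := (iso_iff I U (hcov I) _ _ _ _ (fun p => (hs p).pullback I.subschemeι)
    (fun p => isGen_one_res _) (fun p q => I.subschemeι.app _ (η p q)) (fun _ _ => 1)
    (fun p q => ratio_pull _ (hη' p q)) (fun p q => h1 _ _)).1 hY
  obtain ⟨v, hv⟩ := (iso_iff J U (hcov J) _ _ _ _ (fun p => (hs p).pullback J.subschemeι)
    (fun p => isGen_one_res _) (fun p q => J.subschemeι.app _ (η p q)) (fun _ _ => 1)
    (fun p q => ratio_pull _ (hη' p q)) (fun p q => h1 _ _)).1 hZ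
  simp only [one_mul] at hu hv
  let uW : ∀ p, Γ((I ⊔ J).subscheme, (I ⊔ J).subschemeι ⁻¹ᵁ U p)ˣ := fun p =>
    Units.map (res' (le_sup_left : I ≤ I ⊔ J) (U p)).hom.toMonoidHom (u p)
  let vW : ∀ p, Γ((I ⊔ J).subscheme, (I ⊔ J).subschemeι ⁻¹ᵁ U p)ˣ := fun p =>
    Units.map (res' (le_sup_right : J ≤ I ⊔ J) (U p)).hom.toMonoidHom (v p)
  have huW : ∀ p q, ores ((I ⊔ J).subschemeι.preimage_mono (inf_le_left : U p ⊓ U q ≤ U p)) (uW p).1 =
      ores ((I ⊔ J).subschemeι.preimage_mono (inf_le_right : U p ⊓ U q ≤ U q)) (uW q).1 * res (I ⊔ J) (U p ⊓ U q) (η p q) := fun p q => by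
    have e := congrArg (res' (le_sup_left : I ≤ I ⊔ J) (U p ⊓ U q)) (hu p q)
    rw [map_mul] at e
    exact ((res'_ores _ (inf_le_left : U p ⊓ U q ≤ U p) (u p).1).symm.trans e).trans
      (congrArg₂ (· * ·) (res'_ores _ (inf_le_right : U p ⊓ U q ≤ U q) (u q).1) (res'_res _ _ _))
  have hvW : ∀ p q, ores ((I ⊔ J).subschemeι.preimage_mono (inf_le_left : U p ⊓ U q ≤ U p)) (vW p).1 =
      ores ((I ⊔ J).subschemeι.preimage_mono (inf_le_right : U p ⊓ U q ≤ U q)) (vW q).1 * res (I ⊔ J) (U p ⊓ U q) (η p q) := fun p q => by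
    have e := congrArg (res' (le_sup_right : J ≤ I ⊔ J) (U p ⊓ U q)) (hv p q)
    rw [map_mul] at e
    exact ((res'_ores _ (inf_le_left : U p ⊓ U q ≤ U p) (v p).1).symm.trans e).trans
      (congrArg₂ (· * ·) (res'_ores _ (inf_le_right : U p ⊓ U q ≤ U q) (v q).1) (res'_res _ _ _))
  let w : ∀ p, Γ((I ⊔ J).subscheme, (I ⊔ J).subschemeι ⁻¹ᵁ U p)ˣ := fun p => uW p * (vW p)⁻¹
  have hw : ∀ p q, ores ((I ⊔ J).subschemeι.preimage_mono (inf_le_left : U p ⊓ U q ≤ U p)) (w p).1 =
      ores ((I ⊔ J).subschemeι.preimage_mono (inf_le_right : U p ⊓ U q ≤ U q)) (w q).1 := fun p q => by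
    let m (V : (I ⊔ J).subscheme.Opens) (h : (I ⊔ J).subschemeι ⁻¹ᵁ (U p ⊓ U q) ≤ V) :=
      Units.map (ores h).hom.toMonoidHom
    have hu' : IsUnit (res (I ⊔ J) (U p ⊓ U q) (η p q)) :=
      isUnit_of_mul_isUnit_right ((huW p q) ▸ (show IsUnit (ores ((I ⊔ J).subschemeι.preimage_mono (inf_le_left : U p ⊓ U q ≤ U p)) (uW p).1) from (m _ ((I ⊔ J).subschemeι.preimage_mono inf_le_left) (uW p)).isUnit))
    have e₁ : m _ ((I ⊔ J).subschemeι.preimage_mono inf_le_left) (uW p) = m _ ((I ⊔ J).subschemeι.preimage_mono inf_le_right) (uW q) * hu'.unit := Units.ext (huW p q)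
    have e₂ : m _ ((I ⊔ J).subschemeι.preimage_mono inf_le_left) (vW p) = m _ ((I ⊔ J).subschemeι.preimage_mono inf_le_right) (vW q) * hu'.unit := Units.ext (hvW p q)
    show Units.val (m _ ((I ⊔ J).subschemeι.preimage_mono inf_le_left) (uW p * (vW p)⁻¹)) =
      Units.val (m _ ((I ⊔ J).subschemeι.preimage_mono inf_le_right) (uW q * (vW q)⁻¹))
    rw [map_mul, map_mul, map_inv, map_inv, e₁, e₂, mul_inv_rev, mul_assoc, mul_inv_cancel_left]
  obtain ⟨t, ht, -⟩ := (I ⊔ J).subscheme.sheaf.existsUnique_gluing'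
    (fun p => (I ⊔ J).subschemeι ⁻¹ᵁ U p) ⊤ (fun p => homOfLE le_top) (hcov _).ge (fun p => (w p).1) hw
  have ht' : ∀ p, ores le_top (t : Γ((I ⊔ J).subscheme, ⊤)) = (w p).1 := ht
  have htu : IsUnit (t : Γ((I ⊔ J).subscheme, ⊤)) := by
    obtain ⟨t', ht'', -⟩ := (I ⊔ J).subscheme.sheaf.existsUnique_gluing'
      (fun p => (I ⊔ J).subschemeι ⁻¹ᵁ U p) ⊤ (fun p => homOfLE le_top) (hcov _).ge (fun p => ((w p)⁻¹ : _ˣ).1)
      fun p q => congrArg Units.inv ((Units.ext (hw p q) :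
        Units.map (ores ((I ⊔ J).subschemeι.preimage_mono (inf_le_left : U p ⊓ U q ≤ U p))).hom.toMonoidHom (w p) =
          Units.map (ores ((I ⊔ J).subschemeι.preimage_mono (inf_le_right : U p ⊓ U q ≤ U q))).hom.toMonoidHom (w q)))
    have ht₂ : ∀ p, ores le_top (t' : Γ((I ⊔ J).subscheme, ⊤)) = ((w p)⁻¹ : _ˣ).1 := ht''
    refine IsUnit.of_mul_eq_one (t' : Γ((I ⊔ J).subscheme, ⊤)) ?_
    refine TopCat.Sheaf.eq_of_locally_eq' (I ⊔ J).subscheme.sheaf (fun p => (I ⊔ J).subschemeι ⁻¹ᵁ U p) ⊤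
      (fun p => homOfLE le_top) (hcov _).ge _ _ fun p => ?_
    show ores le_top (_ * _) = ores le_top (1 : Γ((I ⊔ J).subscheme, ⊤))
    rw [map_mul, map_one, ht' p, ht₂ p]
    exact Units.mul_inv _
  obtain ⟨c, hc⟩ := hW htu.unit
  let cJ : ∀ p, Γ(J.subscheme, J.subschemeι ⁻¹ᵁ U p)ˣ := fun p => Units.map
    (π.appTop ≫ res J (⊤ : X.Opens) ≫ J.subscheme.presheaf.map
      (homOfLE (J.subschemeι.preimage_mono (le_top : U p ≤ ⊤))).op).hom.toMonoidHom c
  have hcJ : ∀ p, (cJ p).1 = res J (U p) (ores le_top (π.appTop c.1)) := fun p => (res_ores J le_top _).symm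
  have hcomp : ∀ p, res' (le_sup_left : I ≤ I ⊔ J) (U p) (u p).1 =
      res' (le_sup_right : J ≤ I ⊔ J) (U p) (v p * cJ p).1 := fun p => by
    rw [Units.val_mul, map_mul, hcJ, res'_res, res_ores]
    have e : (uW p).1 = (vW p).1 * (w p).1 := by
      rw [← Units.val_mul]; exact congrArg Units.val (by rw [mul_comm]; exact (inv_mul_cancel_right _ _).symm)
    refine e.trans (congrArg ((vW p).1 * ·) ?_)
    rw [← ht' p]
    refine congrArg (ores _) ?_
    rw [← IsUnit.unit_spec htu, ← hc]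
    rfl
  choose a haI haJ using fun p => glue_unit I J hIJ (U p) (u p) (v p * cJ p) (hcomp p)
  refine (PicCoc15.nonempty_iso_iff U hU L (Coh.structureModule X) s _ hs (fun p => isGen_one_res _) η (fun _ _ => 1)
    hη' (fun p q => h1 _ _)).2 ⟨a, fun p q => ?_⟩
  rw [one_mul]
  refine inj I J hIJ _ _ ?_ ?_
  · rw [map_mul, res_ores, res_ores, haI, haI]
    exact hu p q
  · rw [map_mul, res_ores, res_ores, haJ, haJ, Units.val_mul, Units.val_mul, map_mul, map_mul, hcJ, hcJ,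
      ← res_ores J (inf_le_left : U p ⊓ U q ≤ U p), ← res_ores J (inf_le_right : U p ⊓ U q ≤ U q),
      ores_ores, ores_ores, mul_right_comm]
    exact congrArg (· * _) (hv p q)

include hIJ in
/-- Invertible modules on the pieces which agree on the intersection glue. -/
theorem exists_glued {M : I.subscheme.Modules} (hM : PicF.IsInvertible M) {N : J.subscheme.Modules}
    (hN : PicF.IsInvertible N)
    (hW : Nonempty ((Scheme.Modules.pullback (inclusion (le_sup_left : I ≤ I ⊔ J))).obj M ≅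
      (Scheme.Modules.pullback (inclusion (le_sup_right : J ≤ I ⊔ J))).obj N)) :
    ∃ L : X.Modules, PicF.IsInvertible L ∧ Nonempty ((Scheme.Modules.pullback I.subschemeι).obj L ≅ M) ∧
      Nonempty ((Scheme.Modules.pullback J.subschemeι).obj L ≅ N) := by
  let iY := inclusion (le_sup_left : I ≤ I ⊔ J)
  let iZ := inclusion (le_sup_right : J ≤ I ⊔ J)
  let PM := (Scheme.Modules.pullback iY).obj M
  let PN := (Scheme.Modules.pullback iZ).obj N
  obtain ⟨τ⟩ := hW
  -- the adapted cover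
  have hloc : ∀ p : X, ∃ (U : X.Opens) (m : Γ(M, I.subschemeι ⁻¹ᵁ U)) (n : Γ(N, J.subschemeι ⁻¹ᵁ U)),
      p ∈ U ∧ Twist.IsGen M _ m ∧ Twist.IsGen N _ n ∧
        τ.hom.app _ (mres PM (UnionPush13.le_inclusion le_sup_left) (M2.pullSec iY M m)) =
          mres PN (UnionPush13.le_inclusion le_sup_right) (M2.pullSec iZ N n) := fun p => by
    obtain ⟨U₁, m₁, hp₁, hm₁⟩ := exists_open_gen I hM p
    obtain ⟨U₂, n₂, hp₂, hn₂⟩ := exists_open_gen J hN p
    by_cases hpW : p ∈ Set.range (I ⊔ J).subschemeι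
    · obtain ⟨U, hU, hpU, hU12⟩ := exists_isAffineOpen_mem_and_subset (U := U₁ ⊓ U₂) (x := p) ⟨hp₁, hp₂⟩
      have hle : U ≤ U₁ ⊓ U₂ := hU12
      obtain ⟨m, hm⟩ : ∃ m, Twist.IsGen M (I.subschemeι ⁻¹ᵁ U) m :=
        ⟨_, hm₁.mres (I.subschemeι.preimage_mono (hle.trans inf_le_left))⟩
      obtain ⟨n, hn⟩ : ∃ n, Twist.IsGen N (J.subschemeι ⁻¹ᵁ U) n :=
        ⟨_, hn₂.mres (J.subschemeι.preimage_mono (hle.trans inf_le_right))⟩
      obtain ⟨t, ht⟩ := (((hn.pullback iZ).mres (UnionPush13.le_inclusion le_sup_right)) _ le_rfl).2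
        (τ.hom.app _ (mres PM (UnionPush13.le_inclusion le_sup_left) (M2.pullSec iY M m)))
      simp only [mres_id] at ht
      obtain ⟨t₀, ht₀⟩ := (I ⊔ J).subschemeι_app_surjective ⟨U, hU⟩ t
      let s := res J U t₀
      obtain ⟨O, hO, hOD⟩ := J.subschemeι.isEmbedding.isInducing.isOpen_iff.1 (J.subscheme.basicOpen s).2
      let V : X.Opens := U ⊓ X.basicOpen t₀
      have hpV : p ∈ V := by
        refine ⟨hpU, ?_⟩
        obtain ⟨w, rfl⟩ := hpW
        show w ∈ (I ⊔ J).subschemeι ⁻¹ᵁ X.basicOpen t₀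
        rw [Scheme.preimage_basicOpen]
        change w ∈ (I ⊔ J).subscheme.basicOpen ((I ⊔ J).subschemeι.app U t₀)
        rw [ht₀]
        have hgen : Twist.IsGen PM ((I ⊔ J).subschemeι ⁻¹ᵁ U)
            (mres PM (UnionPush13.le_inclusion le_sup_left) (M2.pullSec iY M m)) := (hm.pullback iY).mres _
        have hgen' := ParaFDesc27.isGen_map_iso τ hgen
        obtain ⟨r, hr⟩ := (hgen' _ le_rfl).2 (mres PN (UnionPush13.le_inclusion le_sup_right) (M2.pullSec iZ N n))
        simp only [mres_id] at hr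
        have : r * t = 1 := (((hn.pullback iZ).mres (UnionPush13.le_inclusion le_sup_right)) _ le_rfl).1 (by
          show (r * t) • mres _ _ (mres _ _ _) = (1 : Γ((I ⊔ J).subscheme, _)) • mres _ _ (mres _ _ _)
          simp only [mres_id, mul_smul, one_smul]
          rw [ht]; exact hr)
        rw [Scheme.basicOpen_of_isUnit _ (IsUnit.of_mul_eq_one r ((mul_comm _ _).trans this))]
        exact hpU
      have hsu : IsUnit (ores (J.subschemeι.preimage_mono (inf_le_left : V ≤ U)) s) := by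
        rw [← res_ores]
        refine IsUnit.map (res J V).hom ?_
        have hb := RingedSpace.isUnit_res_basicOpen X.toRingedSpace t₀
        have := hb.map (X.presheaf.map (homOfLE (inf_le_right : V ≤ X.basicOpen t₀)).op).hom
        change IsUnit (ores (inf_le_right : V ≤ X.basicOpen t₀) (ores (X.basicOpen_le t₀) t₀)) at this
        rwa [ores_ores] at this
      refine ⟨V, mres M (I.subschemeι.preimage_mono inf_le_left) m,
        ores (J.subschemeι.preimage_mono (inf_le_left : V ≤ U)) s • mres N (J.subschemeι.preimage_mono inf_le_left) n,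
        hpV, hm.mres _, ?_, ?_⟩
      · intro W' hW'
        have hu' : IsUnit (ores hW' (ores (J.subschemeι.preimage_mono (inf_le_left : V ≤ U)) s)) := hsu.map _
        have := ((hn.mres (J.subschemeι.preimage_mono (inf_le_left : V ≤ U))) W' hW').comp
          (hu'.unit.mulRight).bijective
        convert this using 1
        funext r
        simp only [Function.comp_apply, Units.mulRight_apply, IsUnit.unit_spec, mres_smul, mul_smul]
        rfl
      · rw [M2.pullSec_smul, mres_smul, PicDesc21.pullSec_mres, PicDesc21.pullSec_mres, mres_mres, mres_mres]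
        have e := congrArg (mres PN ((I ⊔ J).subschemeι.preimage_mono (inf_le_left : V ≤ U))) ht
        rw [mres_smul, mres_mres, ← app_mres, mres_mres] at e
        refine e.symm.trans (congrArg (· • _) ?_)
        rw [← ht₀]
        change ores _ (res (I ⊔ J) U t₀) =
          res' (le_sup_right : J ≤ I ⊔ J) V (ores (J.subschemeι.preimage_mono (inf_le_left : V ≤ U)) (res J U t₀))
        rw [← res_ores J (inf_le_left : V ≤ U), res'_res, res_ores]
    · let U₀ : X.Opens := ⟨(Set.range (I ⊔ J).subschemeι)ᶜ,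
        (I ⊔ J).subschemeι.isClosedEmbedding.isClosed_range.isOpen_compl⟩
      refine ⟨U₁ ⊓ U₂ ⊓ U₀, mres M (I.subschemeι.preimage_mono (inf_le_left.trans inf_le_left)) m₁,
        mres N (J.subschemeι.preimage_mono (inf_le_left.trans inf_le_right)) n₂, ⟨⟨hp₁, hp₂⟩, hpW⟩, hm₁.mres _,
        hn₂.mres _, ?_⟩
      refine TopCat.Presheaf.section_ext (F := ⟨PN.presheaf, PN.isSheaf⟩) _ _ _ fun x hx => ?_
      exact absurd ⟨x, rfl⟩ hx.2
  choose U m n hpU hm hn hτ using hloc
  have hU : iSup U = ⊤ := top_le_iff.1 fun p _ => Opens.mem_iSup.2 ⟨p, hpU p⟩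
  have hcov : ∀ K : X.IdealSheafData, (⨆ p, K.subschemeι ⁻¹ᵁ U p) = ⊤ := fun K => by
    rw [← Scheme.Hom.preimage_iSup, hU, Scheme.Hom.preimage_top]
  choose a ha using fun p q : X => ((hm q) (I.subschemeι ⁻¹ᵁ (U p ⊓ U q)) (I.subschemeι.preimage_mono inf_le_right)).2
    (mres M (I.subschemeι.preimage_mono inf_le_left) (m p))
  choose b hb using fun p q : X => ((hn q) (J.subschemeι ⁻¹ᵁ (U p ⊓ U q)) (J.subschemeι.preimage_mono inf_le_right)).2
    (mres N (J.subschemeι.preimage_mono inf_le_left) (n p))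
  -- the ratios agree on the intersection
  have hab : ∀ p q, res' (le_sup_left : I ≤ I ⊔ J) (U p ⊓ U q) (a p q) =
      res' (le_sup_right : J ≤ I ⊔ J) (U p ⊓ U q) (b p q) := fun p q => by
    let V := (I ⊔ J).subschemeι ⁻¹ᵁ (U p ⊓ U q)
    have eM := congrArg (mres PM (UnionPush13.le_inclusion le_sup_left : V ≤ _))
      (congrArg (M2.pullSec iY M) (ha p q))
    have eN := congrArg (mres PN (UnionPush13.le_inclusion le_sup_right : V ≤ _))
      (congrArg (M2.pullSec iZ N) (hb p q))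
    rw [M2.pullSec_smul, PicDesc21.pullSec_mres, PicDesc21.pullSec_mres, mres_smul, mres_mres, mres_mres] at eM eN
    have eτ := congrArg (τ.hom.app V) eM
    rw [τ.hom.app_smul] at eτ
    have hp' := congrArg (mres PN ((I ⊔ J).subschemeι.preimage_mono (inf_le_left : U p ⊓ U q ≤ U p))) (hτ p)
    have hq' := congrArg (mres PN ((I ⊔ J).subschemeι.preimage_mono (inf_le_right : U p ⊓ U q ≤ U q))) (hτ q)
    rw [← app_mres, mres_mres, mres_mres] at hp' hq'
    rw [hp', hq', ← eN] at eτ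
    exact ((((hn q).pullback iZ).mres (UnionPush13.le_inclusion le_sup_right)) V
      ((I ⊔ J).subschemeι.preimage_mono inf_le_right)).1 (by
        show res' _ _ (a p q) • mres _ _ (mres _ _ _) = res' _ _ (b p q) • mres _ _ (mres _ _ _)
        rw [mres_mres]; exact eτ)
  have hau : ∀ p q, IsUnit (a p q) := fun p q => by
    obtain ⟨r, hr⟩ := ((hm p) (I.subschemeι ⁻¹ᵁ (U p ⊓ U q)) (I.subschemeι.preimage_mono inf_le_left)).2 (mres M (I.subschemeι.preimage_mono inf_le_right) (m q))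
    refine IsUnit.of_mul_eq_one r (((hm p) _ (I.subschemeι.preimage_mono inf_le_left)).1 ?_)
    show (a p q * r) • mres M _ (m p) = (1 : Γ(I.subscheme, _)) • mres M _ (m p)
    rw [one_smul, mul_smul]
    exact (congrArg (a p q • ·) hr).trans (ha p q)
  have hbu : ∀ p q, IsUnit (b p q) := fun p q => by
    obtain ⟨r, hr⟩ := ((hn p) (J.subschemeι ⁻¹ᵁ (U p ⊓ U q)) (J.subschemeι.preimage_mono inf_le_left)).2 (mres N (J.subschemeι.preimage_mono inf_le_right) (n q))
    refine IsUnit.of_mul_eq_one r (((hn p) _ (J.subschemeι.preimage_mono inf_le_left)).1 ?_)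
    show (b p q * r) • mres N _ (n p) = (1 : Γ(J.subscheme, _)) • mres N _ (n p)
    rw [one_smul, mul_smul]
    exact (congrArg (b p q • ·) hr).trans (hb p q)
  choose η hηI hηJ using fun p q => glue_unit I J hIJ (U p ⊓ U q) (hau p q).unit (hbu p q).unit
    (by simpa using hab p q)
  have hcocI : ∀ p q r (V : I.subscheme.Opens) (hp : V ≤ I.subschemeι ⁻¹ᵁ U p) (hq : V ≤ I.subschemeι ⁻¹ᵁ U q)
      (hr : V ≤ I.subschemeι ⁻¹ᵁ U r), ores (show V ≤ I.subschemeι ⁻¹ᵁ (U p ⊓ U r) from le_inf hp hr) (a p r) =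
        ores (show V ≤ I.subschemeι ⁻¹ᵁ (U p ⊓ U q) from le_inf hp hq) (a p q) *
          ores (show V ≤ I.subschemeι ⁻¹ᵁ (U q ⊓ U r) from le_inf hq hr) (a q r) := fun p q r V hp hq hr => by
    refine ((hm r) V hr).1 ?_
    have e₁ := congrArg (mres M (show V ≤ I.subschemeι ⁻¹ᵁ (U p ⊓ U r) from le_inf hp hr)) (ha p r)
    have e₂ := congrArg (mres M (show V ≤ I.subschemeι ⁻¹ᵁ (U p ⊓ U q) from le_inf hp hq)) (ha p q)
    have e₃ := congrArg (mres M (show V ≤ I.subschemeι ⁻¹ᵁ (U q ⊓ U r) from le_inf hq hr)) (ha q r)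
    rw [mres_smul, mres_mres, mres_mres] at e₁ e₂ e₃
    show _ • mres M hr (m r) = _ • mres M hr (m r)
    rw [mul_smul, e₁, e₃, e₂]
  have hcocJ : ∀ p q r (V : J.subscheme.Opens) (hp : V ≤ J.subschemeι ⁻¹ᵁ U p) (hq : V ≤ J.subschemeι ⁻¹ᵁ U q)
      (hr : V ≤ J.subschemeι ⁻¹ᵁ U r), ores (show V ≤ J.subschemeι ⁻¹ᵁ (U p ⊓ U r) from le_inf hp hr) (b p r) =
        ores (show V ≤ J.subschemeι ⁻¹ᵁ (U p ⊓ U q) from le_inf hp hq) (b p q) *
          ores (show V ≤ J.subschemeι ⁻¹ᵁ (U q ⊓ U r) from le_inf hq hr) (b q r) := fun p q r V hp hq hr => by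
    refine ((hn r) V hr).1 ?_
    have e₁ := congrArg (mres N (show V ≤ J.subschemeι ⁻¹ᵁ (U p ⊓ U r) from le_inf hp hr)) (hb p r)
    have e₂ := congrArg (mres N (show V ≤ J.subschemeι ⁻¹ᵁ (U p ⊓ U q) from le_inf hp hq)) (hb p q)
    have e₃ := congrArg (mres N (show V ≤ J.subschemeι ⁻¹ᵁ (U q ⊓ U r) from le_inf hq hr)) (hb q r)
    rw [mres_smul, mres_mres, mres_mres] at e₁ e₂ e₃
    show _ • mres N hr (n r) = _ • mres N hr (n r)
    rw [mul_smul, e₁, e₃, e₂]
  obtain ⟨L, s, hL, hs, hsη⟩ := PicCoc15.exists_realizing U hU η fun p q r => by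
    change ores _ (η p r).1 = ores _ (η p q).1 * ores _ (η q r).1
    refine inj I J hIJ _ _ ?_ ?_
    · simp only [map_mul, res_ores, hηI, IsUnit.unit_spec]
      exact hcocI p q r _ (I.subschemeι.preimage_mono (inf_le_left.trans inf_le_left))
        (I.subschemeι.preimage_mono (inf_le_left.trans inf_le_right)) (I.subschemeι.preimage_mono inf_le_right)
    · simp only [map_mul, res_ores, hηJ, IsUnit.unit_spec]
      exact hcocJ p q r _ (J.subschemeι.preimage_mono (inf_le_left.trans inf_le_left))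
        (J.subschemeι.preimage_mono (inf_le_left.trans inf_le_right)) (J.subschemeι.preimage_mono inf_le_right)
  refine ⟨L, hL, ?_, ?_⟩
  · exact (iso_iff I U (hcov I) _ _ _ _ (fun p => (hs p).pullback I.subschemeι) hm _
      (fun p q => a p q) (fun p q => ratio_pull _ (hsη p q)) (fun p q => (ha p q).symm)).2
      ⟨1, fun p q => by simp only [Pi.one_apply, Units.val_one, map_one, mul_one, one_mul]; exact (hηI p q).symm⟩
  · exact (iso_iff J U (hcov J) _ _ _ _ (fun p => (hs p).pullback J.subschemeι) hn _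
      (fun p q => b p q) (fun p q => ratio_pull _ (hsη p q)) (fun p q => (hb p q).symm)).2
      ⟨1, fun p q => by simp only [Pi.one_apply, Units.val_one, map_one, mul_one, one_mul]; exact (hηJ p q).symm⟩

end Groth.Agent.PicUnion22

end
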